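import Mathlib.RepresentationTheory.Maschke
import Mathlib.RingTheory.SimpleModule.WedderburnArtin
import Mathlib.RingTheory.SimpleModule.Basic

set_option autoImplicit false

/-!
# The commutant of a representation of a finite group acts semisimply
-/

namespace K888.Commutant

universe u v

variable {k : Type u} [Field k] {G : Type} [Group G] [Finite G] [NeZero (Nat.card G : k)]
  {T : Type v} [AddCommGroup T] [Module k T] [Module.Finite k T] (ρ : Representation k G T)

/-- an endomorphism commuting with the representation, as an endomorphism of the module over the group algebra -/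
noncomputable def toEnd (f : T →ₗ[k] T) (hf : ∀ g x, f (ρ g x) = ρ g (f x)) :
    Module.End (MonoidAlgebra k G) ρ.asModule where
  toFun x := ρ.asModuleEquiv.symm (f (ρ.asModuleEquiv x))
  map_add' x y := by simp
  map_smul' r x := by
    have key : ∀ (r : MonoidAlgebra k G) (y : T), f (ρ.asAlgebraHom r y) = ρ.asAlgebraHom r (f y) := by
      intro r y
      induction r using MonoidAlgebra.induction_on with
      | of g => simpa using hf g y
      | add a b ha hb => simp only [map_add, LinearMap.add_apply, ha, hb]
      | smul c a ha => simp only [map_smul, LinearMap.smul_apply, ha]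
    apply ρ.asModuleEquiv.injective
    simp only [RingHom.id_apply, LinearEquiv.apply_symm_apply]
    rw [ρ.asModuleEquiv_map_smul, ρ.asModuleEquiv_map_smul, key]
    simp

theorem exists_compl (W : Submodule k T)
    (hW : ∀ f : T →ₗ[k] T, (∀ g x, f (ρ g x) = ρ g (f x)) → ∀ w ∈ W, f w ∈ W) :
    ∃ W' : Submodule k T, (∀ f : T →ₗ[k] T, (∀ g x, f (ρ g x) = ρ g (f x)) → ∀ w ∈ W', f w ∈ W') ∧ IsCompl W W' := by
  have hfin : Module.Finite (MonoidAlgebra k G) ρ.asModule :=
    Module.Finite.of_restrictScalars_finite k (MonoidAlgebra k G) ρ.asModule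
  have hss : IsSemisimpleModule (MonoidAlgebra k G) ρ.asModule := inferInstance
  have hE : IsSemisimpleRing (Module.End (MonoidAlgebra k G) ρ.asModule) := IsSemisimpleRing.moduleEnd _ _
  have hEM : IsSemisimpleModule (Module.End (MonoidAlgebra k G) ρ.asModule) ρ.asModule := inferInstance
  let N : Submodule (Module.End (MonoidAlgebra k G) ρ.asModule) ρ.asModule :=
    { carrier := {v | ρ.asModuleEquiv v ∈ W}
      add_mem' := fun {a b} ha hb => by
        change ρ.asModuleEquiv (a + b) ∈ W
        rw [map_add]
        exact W.add_mem ha hb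
      zero_mem' := by simp
      smul_mem' := fun F v hv => by
        have h1 := hW (ρ.asModuleEquiv.toLinearMap ∘ₗ (F.restrictScalars k) ∘ₗ ρ.asModuleEquiv.symm.toLinearMap)
          (fun g x => by
            simp only [LinearMap.comp_apply, LinearEquiv.coe_coe, LinearMap.coe_restrictScalars]
            rw [ρ.asModuleEquiv_symm_map_rho, map_smul, ρ.asModuleEquiv_map_smul]
            simp) (ρ.asModuleEquiv v) hv
        have h2 : (ρ.asModuleEquiv.toLinearMap ∘ₗ (F.restrictScalars k) ∘ₗ ρ.asModuleEquiv.symm.toLinearMap)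
          (ρ.asModuleEquiv v) = ρ.asModuleEquiv (F v) := by
          change ρ.asModuleEquiv (F (ρ.asModuleEquiv.symm (ρ.asModuleEquiv v))) = _
          rw [LinearEquiv.symm_apply_apply]
        rw [h2] at h1
        exact h1 }
  obtain ⟨N', hN'⟩ := exists_isCompl N
  let W' : Submodule k T :=
    { carrier := {x | ρ.asModuleEquiv.symm x ∈ N'}
      add_mem' := fun {a b} ha hb => by
        change ρ.asModuleEquiv.symm (a + b) ∈ N'
        rw [map_add]
        exact N'.add_mem ha hb
      zero_mem' := by
        change ρ.asModuleEquiv.symm 0 ∈ N'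
        rw [map_zero]
        exact N'.zero_mem
      smul_mem' := fun c v hv => by
        have h1 : toEnd ρ (c • LinearMap.id) (fun g x => by simp) • ρ.asModuleEquiv.symm v ∈ N' :=
          N'.smul_mem _ hv
        have h2 : toEnd ρ (c • LinearMap.id) (fun g x => by simp) • ρ.asModuleEquiv.symm v =
            ρ.asModuleEquiv.symm (c • v) := by
          change ρ.asModuleEquiv.symm ((c • LinearMap.id : T →ₗ[k] T) (ρ.asModuleEquiv (ρ.asModuleEquiv.symm v))) = _
          simp
        rw [h2] at h1
        exact h1 }
  refine ⟨W', fun f hf w hw => ?_, ?_⟩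
  · have h1 : toEnd ρ f hf • ρ.asModuleEquiv.symm w ∈ N' := N'.smul_mem _ hw
    have h2 : toEnd ρ f hf • ρ.asModuleEquiv.symm w = ρ.asModuleEquiv.symm (f w) := by
      change ρ.asModuleEquiv.symm (f (ρ.asModuleEquiv (ρ.asModuleEquiv.symm w))) = _
      rw [LinearEquiv.apply_symm_apply]
    rw [h2] at h1
    exact h1
  · constructor
    · rw [Submodule.disjoint_def]
      intro x hx hx'
      have h1 : ρ.asModuleEquiv.symm x ∈ N := by
        change ρ.asModuleEquiv (ρ.asModuleEquiv.symm x) ∈ W
        rwa [LinearEquiv.apply_symm_apply]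
      have h2 := (Submodule.disjoint_def.mp hN'.disjoint) _ h1 hx'
      exact (LinearEquiv.map_eq_zero_iff _).mp h2
    · rw [codisjoint_iff, eq_top_iff]
      intro x _
      have h1 : ρ.asModuleEquiv.symm x ∈ N ⊔ N' := by
        rw [hN'.sup_eq_top]; exact Submodule.mem_top
      obtain ⟨y, hy, z, hz, hyz⟩ := Submodule.mem_sup.mp h1
      rw [Submodule.mem_sup]
      refine ⟨ρ.asModuleEquiv y, hy, ρ.asModuleEquiv z, ?_, ?_⟩
      · change ρ.asModuleEquiv.symm (ρ.asModuleEquiv z) ∈ N'
        rwa [LinearEquiv.symm_apply_apply]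
      · rw [← map_add, hyz, LinearEquiv.apply_symm_apply]

end K888.Commutant
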