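import Mathlib.LinearAlgebra.Contraction
import Mathlib.Algebra.Module.FinitePresentation
import Mathlib.RingTheory.Flat.Basic
import Mathlib.LinearAlgebra.LeftExact

set_option autoImplicit false

/-!
# `M^* ⊗ N → Hom(M, N)` is bijective for `M` finitely presented and `N` flat
-/

open TensorProduct

namespace K888.FlatHom

universe u v w v'

theorem dualTensorHom_rTensor_lcomp (R : Type u) [CommRing R] (P : Type v) (Q : Type v') [AddCommGroup P] [Module R P]
    [AddCommGroup Q] [Module R Q] (N : Type w) [AddCommGroup N] [Module R N] (a : P →ₗ[R] Q)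
    (x : Module.Dual R Q ⊗[R] N) :
    dualTensorHom R P N ((LinearMap.lcomp R R a).rTensor N x) = (dualTensorHom R Q N x) ∘ₗ a := by
  induction x using TensorProduct.induction_on with
  | zero => simp
  | add x y hx hy => rw [map_add, map_add, hx, hy, map_add, LinearMap.add_comp]
  | tmul φ b =>
    ext p
    rw [LinearMap.rTensor_tmul, dualTensorHom_apply, LinearMap.comp_apply, dualTensorHom_apply]
    rfl

theorem dualTensorHom_bijective_of_flat (R : Type u) [CommRing R] (M : Type v) [AddCommGroup M] [Module R M]
    [Module.FinitePresentation R M] (N : Type w) [AddCommGroup N] [Module R N] [Module.Flat R N] :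
    Function.Bijective (dualTensorHom R M N) := by
  obtain ⟨n, m, f, g, hf, hfg⟩ := Module.FinitePresentation.exists_fin' (R := R) (M := M)
  have hn := dualTensorHom_bijective (R := R) (M := Fin n → R) (N := N)
  have hm := dualTensorHom_bijective (R := R) (M := Fin m → R) (N := N)
  have hex : Function.Exact (LinearMap.lcomp R R f) (LinearMap.lcomp R R g) :=
    LinearMap.exact_lcomp_of_exact_of_surjective _ hfg hf
  have hinj : Function.Injective (LinearMap.lcomp R R f) := by
    intro a b hab
    ext x
    obtain ⟨y, rfl⟩ := hf x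
    exact LinearMap.congr_fun hab y
  have hexN := Module.Flat.rTensor_exact N hex
  have hinjN := Module.Flat.rTensor_preserves_injective_linearMap (M := N) _ hinj
  constructor
  · rw [injective_iff_map_eq_zero]
    intro x hx
    apply hinjN
    rw [map_zero]
    apply hn.1
    rw [dualTensorHom_rTensor_lcomp, hx, LinearMap.zero_comp, map_zero]
  · intro h
    obtain ⟨y, hy⟩ := hn.2 (h ∘ₗ f)
    have h1 : (LinearMap.lcomp R R g).rTensor N y = 0 := by
      apply hm.1
      rw [dualTensorHom_rTensor_lcomp, hy, map_zero, LinearMap.comp_assoc, hfg.linearMap_comp_eq_zero,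
        LinearMap.comp_zero]
    obtain ⟨x, hx⟩ := (hexN y).mp h1
    refine ⟨x, ?_⟩
    have h2 : (dualTensorHom R M N x) ∘ₗ f = h ∘ₗ f := by
      rw [← dualTensorHom_rTensor_lcomp, hx, hy]
    ext z
    obtain ⟨z', rfl⟩ := hf z
    exact LinearMap.congr_fun h2 z'

end K888.FlatHom
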