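import Groth.Prelude.Def_ComodTens
import Groth.Prelude.Def_ComodDual
import Groth.Prelude.Def_Hoch
import Groth.Agent.ComodTens.K888.FlatHom

set_option autoImplicit false

/-!
# Invariants of `B ⊗ M^*` and comodule homomorphisms `M → B`
-/

open TensorProduct ComodTens

namespace K888.DualInv

universe u v w w'

variable {k : Type u} [CommRing k] {A : Type v} [CommRing A] [HopfAlgebra k A]
  {B : Type w} [AddCommGroup B] [Module k B] {M : Type w'} [AddCommGroup M] [Module k M]

/-- right multiplication `(B ⊗ A) ⊗ A → B ⊗ A` -/
noncomputable def mulr (k : Type u) [CommRing k] (A : Type v) [CommRing A] [HopfAlgebra k A]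
    (B : Type w) [AddCommGroup B] [Module k B] : (B ⊗[k] A) ⊗[k] A →ₗ[k] B ⊗[k] A :=
  (LinearMap.mul' k A).lTensor B ∘ₗ (TensorProduct.assoc k B A A).toLinearMap

@[simp] theorem mulr_tmul (b : B) (a a' : A) : mulr k A B ((b ⊗ₜ a) ⊗ₜ a') = b ⊗ₜ (a * a') := by
  simp [mulr]

/-- `(B ⊗ M^*) ⊗ A → Hom(M, B ⊗ A)` -/
noncomputable def Psi (k : Type u) [CommRing k] (A : Type v) [CommRing A] [HopfAlgebra k A]
    (B : Type w) [AddCommGroup B] [Module k B] (M : Type w') [AddCommGroup M] [Module k M] :
    (B ⊗[k] Module.Dual k M) ⊗[k] A →ₗ[k] (M →ₗ[k] B ⊗[k] A) :=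
  dualTensorHom k M (B ⊗[k] A) ∘ₗ (TensorProduct.assoc k (Module.Dual k M) B A).toLinearMap ∘ₗ
    (TensorProduct.comm k B (Module.Dual k M)).toLinearMap.rTensor A

@[simp] theorem Psi_tmul (b : B) (φ : Module.Dual k M) (a : A) (m : M) :
    Psi k A B M ((b ⊗ₜ φ) ⊗ₜ a) m = φ m • (b ⊗ₜ a) := by
  simp [Psi, dualTensorHom_apply]

theorem Psi_injective [Module.Flat k A] [Module.Flat k B] [Module.FinitePresentation k M] :
    Function.Injective (Psi k A B M) := by
  have h1 := (K888.FlatHom.dualTensorHom_bijective_of_flat k M (B ⊗[k] A)).1
  have h2 : Function.Injective ((TensorProduct.comm k B (Module.Dual k M)).toLinearMap.rTensor A) :=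
    (LinearEquiv.rTensor A (TensorProduct.comm k B (Module.Dual k M))).injective
  exact h1.comp ((TensorProduct.assoc k (Module.Dual k M) B A).injective.comp h2)

/-- the natural map `B ⊗ M^* → Hom(M, B)` -/
noncomputable def toHom (k : Type u) [CommRing k] (B : Type w) [AddCommGroup B] [Module k B] (M : Type w')
    [AddCommGroup M] [Module k M] : B ⊗[k] Module.Dual k M →ₗ[k] (M →ₗ[k] B) :=
  dualTensorHom k M B ∘ₗ (TensorProduct.comm k B (Module.Dual k M)).toLinearMap

@[simp] theorem toHom_tmul (b : B) (φ : Module.Dual k M) (m : M) : toHom k B M (b ⊗ₜ φ) m = φ m • b := by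
  simp [toHom, dualTensorHom_apply]

theorem Psi_tmul_one (x : B ⊗[k] Module.Dual k M) (m : M) :
    Psi k A B M (x ⊗ₜ (1 : A)) m = (toHom k B M x m) ⊗ₜ 1 := by
  induction x using TensorProduct.induction_on with
  | zero => simp
  | add x y hx hy => rw [TensorProduct.add_tmul, map_add, LinearMap.add_apply, hx, hy, map_add, LinearMap.add_apply,
      TensorProduct.add_tmul]
  | tmul b φ => rw [Psi_tmul, toHom_tmul, TensorProduct.smul_tmul']

/-- `m ↦ Σ ρ(h(m₀)) S(m₁)` -/
noncomputable def G (cB : HopfRep.Comod k A B) (cM : HopfRep.Comod k A M) (h : M →ₗ[k] B) : M →ₗ[k] B ⊗[k] A :=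
  mulr k A B ∘ₗ TensorProduct.map (cB.coact ∘ₗ h) (HopfAlgebraStruct.antipode (R := k) (A := A)) ∘ₗ cM.coact

theorem Psi_coact (cB : HopfRep.Comod k A B) (cM : HopfRep.Comod k A M) (d : HopfRep.Comod k A (Module.Dual k M))
    (hd : Comod.IsDual cM d) (x : B ⊗[k] Module.Dual k M) :
    Psi k A B M ((Comod.tensor cB d).coact x) = G cB cM (toHom k B M x) := by
  induction x using TensorProduct.induction_on with
  | zero =>
    rw [map_zero, map_zero, map_zero, G, LinearMap.comp_zero]
    ext m
    simp
  | add x y hx hy =>
    rw [map_add, map_add, hx, hy, map_add, G, G, G, LinearMap.comp_add, TensorProduct.map_add_left,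
      LinearMap.add_comp, LinearMap.comp_add]
  | tmul b φ =>
    rw [tensor_coact_tmul]
    -- general formula
    have key : ∀ (y : B ⊗[k] A) (z : Module.Dual k M ⊗[k] A) (m : M),
        Psi k A B M (TensorProduct.map LinearMap.id (LinearMap.mul' k A)
          (AlgebraTensorModule.tensorTensorTensorComm k k k k B A (Module.Dual k M) A (y ⊗ₜ[k] z))) m =
        mulr k A B (y ⊗ₜ (dualTensorHom k M A z m)) := by
      intro y z m
      induction y using TensorProduct.induction_on with
      | zero => simp
      | add x y hx hy => simp only [TensorProduct.add_tmul, map_add, LinearMap.add_apply, hx, hy]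
      | tmul b a =>
        induction z using TensorProduct.induction_on with
        | zero => simp
        | add x y hx hy => simp only [TensorProduct.tmul_add, map_add, LinearMap.add_apply, hx, hy]
        | tmul ψ a' =>
          rw [AlgebraTensorModule.tensorTensorTensorComm_tmul, TensorProduct.map_tmul, LinearMap.id_apply,
            LinearMap.mul'_apply, Psi_tmul, dualTensorHom_apply, mulr_tmul]
          simp
    ext m
    rw [key, hd φ, dualCoactFun_apply, G]
    simp only [LinearMap.comp_apply]
    induction cM.coact m using TensorProduct.induction_on with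
    | zero => simp
    | add x y hx hy => simp only [map_add, TensorProduct.tmul_add, hx, hy]
    | tmul m' a =>
      rw [TensorProduct.map_tmul, TensorProduct.lid_tmul, TensorProduct.map_tmul, LinearMap.comp_apply, toHom_tmul,
        map_smul, TensorProduct.smul_tmul]

/-- `h` is a comodule map iff `Σ ρ(h(m₀)) S(m₁) = h(m) ⊗ 1`. -/
theorem isComodHom_iff (cB : HopfRep.Comod k A B) (cM : HopfRep.Comod k A M) (h : M →ₗ[k] B) :
    (cB.coact ∘ₗ h = h.rTensor A ∘ₗ cM.coact) ↔ ∀ m, G cB cM h m = h m ⊗ₜ (1 : A) := by
  have coassoc : ∀ m, (TensorProduct.assoc k M A A) (cM.coact.rTensor A (cM.coact m)) =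
      (CoalgebraStruct.comul (R := k) (A := A)).lTensor M (cM.coact m) := fun m =>
    LinearMap.congr_fun cM.coassoc m
  have counit : ∀ m, (CoalgebraStruct.counit (R := k) (A := A)).lTensor M (cM.coact m) = m ⊗ₜ 1 := fun m =>
    LinearMap.congr_fun cM.counit_comp m
  constructor
  · intro hh m
    have e1 : G cB cM h m = mulr k A B (TensorProduct.map (h.rTensor A)
        (HopfAlgebraStruct.antipode (R := k) (A := A)) (cM.coact.rTensor A (cM.coact m))) := by
      rw [G, hh]
      simp only [LinearMap.comp_apply]
      congr 1
      rw [← LinearMap.map_comp_rTensor]; rfl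
    have e2 : ∀ z : (M ⊗[k] A) ⊗[k] A, mulr k A B (TensorProduct.map (h.rTensor A)
        (HopfAlgebraStruct.antipode (R := k) (A := A)) z) =
        TensorProduct.map h (LinearMap.mul' k A ∘ₗ (HopfAlgebraStruct.antipode (R := k) (A := A)).lTensor A)
          (TensorProduct.assoc k M A A z) := by
      intro z
      induction z using TensorProduct.induction_on with
      | zero => simp
      | add x y hx hy => simp only [map_add, hx, hy]
      | tmul z a =>
        induction z using TensorProduct.induction_on with
        | zero => simp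
        | add x y hx hy => simp only [map_add, TensorProduct.add_tmul, hx, hy]
        | tmul m a' => simp
    rw [e1, e2, coassoc]
    have e3 : ∀ z : M ⊗[k] A, TensorProduct.map h (LinearMap.mul' k A ∘ₗ
          (HopfAlgebraStruct.antipode (R := k) (A := A)).lTensor A)
          ((CoalgebraStruct.comul (R := k) (A := A)).lTensor M z) =
        TensorProduct.map h (Algebra.linearMap k A) ((CoalgebraStruct.counit (R := k) (A := A)).lTensor M z) := by
      intro z
      induction z using TensorProduct.induction_on with
      | zero => simp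
      | add x y hx hy => simp only [map_add, hx, hy]
      | tmul m a =>
        simp only [LinearMap.lTensor_tmul, TensorProduct.map_tmul, LinearMap.comp_apply]
        rw [HopfAlgebra.mul_antipode_lTensor_comul_apply]
        rfl
    rw [e3, counit, TensorProduct.map_tmul]
    simp
  · intro hh
    ext m
    have hh' : G cB cM h = (TensorProduct.mk k B A).flip 1 ∘ₗ h := LinearMap.ext hh
    have e0 : (h.rTensor A) (cM.coact m) = mulr k A B (((TensorProduct.mk k B A).flip 1 ∘ₗ h).rTensor A (cM.coact m)) := by
      induction cM.coact m using TensorProduct.induction_on with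
      | zero => simp
      | add x y hx hy => simp only [map_add, hx, hy]
      | tmul m a => simp
    have e1 : ∀ z : M ⊗[k] A, (G cB cM h).rTensor A z = (mulr k A B).rTensor A
        ((TensorProduct.map (cB.coact ∘ₗ h) (HopfAlgebraStruct.antipode (R := k) (A := A))).rTensor A
          (cM.coact.rTensor A z)) := by
      intro z
      rw [G, LinearMap.rTensor_comp, LinearMap.rTensor_comp]
      rfl
    have e2 : ∀ z : (M ⊗[k] A) ⊗[k] A, mulr k A B ((mulr k A B).rTensor A
        ((TensorProduct.map (cB.coact ∘ₗ h) (HopfAlgebraStruct.antipode (R := k) (A := A))).rTensor A z)) =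
        mulr k A B (TensorProduct.map (cB.coact ∘ₗ h) (LinearMap.mul' k A ∘ₗ
          (HopfAlgebraStruct.antipode (R := k) (A := A)).rTensor A) (TensorProduct.assoc k M A A z)) := by
      intro z
      induction z using TensorProduct.induction_on with
      | zero => simp
      | add x y hx hy => simp only [map_add, hx, hy]
      | tmul z a =>
        induction z using TensorProduct.induction_on with
        | zero => simp
        | add x y hx hy => simp only [map_add, TensorProduct.add_tmul, hx, hy]
        | tmul m a' =>
          simp only [LinearMap.rTensor_tmul, TensorProduct.map_tmul, TensorProduct.assoc_tmul, LinearMap.comp_apply,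
            LinearMap.mul'_apply]
          induction cB.coact (h m) using TensorProduct.induction_on with
          | zero => simp
          | add x y hx hy => simp only [map_add, TensorProduct.add_tmul, hx, hy]
          | tmul b c => simp [mul_assoc]
    have e3 : ∀ z : M ⊗[k] A, TensorProduct.map (cB.coact ∘ₗ h) (LinearMap.mul' k A ∘ₗ
          (HopfAlgebraStruct.antipode (R := k) (A := A)).rTensor A)
          ((CoalgebraStruct.comul (R := k) (A := A)).lTensor M z) =
        TensorProduct.map (cB.coact ∘ₗ h) (Algebra.linearMap k A)
          ((CoalgebraStruct.counit (R := k) (A := A)).lTensor M z) := by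
      intro z
      induction z using TensorProduct.induction_on with
      | zero => simp
      | add x y hx hy => simp only [map_add, hx, hy]
      | tmul m a =>
        simp only [LinearMap.lTensor_tmul, TensorProduct.map_tmul, LinearMap.comp_apply]
        rw [HopfAlgebra.mul_antipode_rTensor_comul_apply]
        rfl
    have e4 : ∀ z : B ⊗[k] A, mulr k A B (z ⊗ₜ (1 : A)) = z := by
      intro z
      induction z using TensorProduct.induction_on with
      | zero => simp
      | add x y hx hy => simp only [map_add, TensorProduct.add_tmul, hx, hy]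
      | tmul b a => simp
    change cB.coact (h m) = (h.rTensor A) (cM.coact m)
    rw [e0, ← hh', e1, e2, coassoc, e3, counit, TensorProduct.map_tmul, LinearMap.comp_apply]
    simp [e4]

end K888.DualInv
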