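import Groth.Agent.ComodTens.K888.Commutant
import Groth.Agent.HopfRep.K192.DualMod
import Mathlib.GroupTheory.Perm.Basic
import Mathlib.Data.Fintype.Perm

set_option autoImplicit false

/-!
# Semisimplicity of tensor powers
-/

open TensorProduct HopfRep Groth.Agent.Books.ComodBasic

namespace K888.Schur

universe u v w

variable {k : Type u} [Field k] {A : Type v} [CommRing A] [Bialgebra k A]
  {T : Type w} [AddCommGroup T] [Module k T] {a : ℕ} {ι : Type} [Fintype ι] [DecidableEq ι]
  (e : Module.Basis (Fin a → ι) k T) (x : ι → ι → A)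

/-- the matrix coefficient `x_{K,J} = ∏ x (K l) (J l)` -/
def mon (x : ι → ι → A) (K J : Fin a → ι) : A := ∏ l, x (K l) (J l)

theorem mon_comp (σ : Equiv.Perm (Fin a)) (K J : Fin a → ι) : mon x (K ∘ σ) (J ∘ σ) = mon x K J :=
  Equiv.prod_comp σ fun l => x (K l) (J l)

/-- the permutation representation on the tensor power -/
noncomputable def permRep : Representation k (Equiv.Perm (Fin a)) T where
  toFun σ := e.constr k fun J => e (J ∘ (σ⁻¹ : Equiv.Perm (Fin a)))
  map_one' := by
    apply e.ext
    intro J
    rw [Module.Basis.constr_basis]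
    rfl
  map_mul' σ τ := by
    apply e.ext
    intro J
    rw [Module.Basis.constr_basis, Module.End.mul_apply, Module.Basis.constr_basis, Module.Basis.constr_basis,
      mul_inv_rev]
    rfl

@[simp] theorem permRep_basis (σ : Equiv.Perm (Fin a)) (J : Fin a → ι) :
    permRep e σ (e J) = e (J ∘ (σ⁻¹ : Equiv.Perm (Fin a))) := Module.Basis.constr_basis _ _ _ _

variable [Comod k A T] (he : ∀ J, Comod.coact (k := k) (A := A) (e J) = ∑ K, e K ⊗ₜ[k] mon x K J)

include he in
theorem dact_basis (φ : A →ₗ[k] k) (J : Fin a → ι) : dact T φ (e J) = ∑ K, φ (mon x K J) • e K := by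
  rw [dact_apply, he, map_sum]
  simp only [slice_tmul]

include he in
theorem dact_comm (φ : A →ₗ[k] k) (σ : Equiv.Perm (Fin a)) (t : T) :
    dact T φ (permRep e σ t) = permRep e σ (dact T φ t) := by
  have key : dact T φ ∘ₗ permRep e σ = permRep e σ ∘ₗ dact T φ := by
    apply e.ext
    intro J
    rw [LinearMap.comp_apply, LinearMap.comp_apply, permRep_basis, dact_basis e x he, dact_basis e x he, map_sum]
    simp only [map_smul, permRep_basis]
    rw [← (Equiv.arrowCongr (σ : Fin a ≃ Fin a) (Equiv.refl ι)).sum_comp]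
    refine Finset.sum_congr rfl fun K _ => ?_
    have h1 : (Equiv.arrowCongr (σ : Fin a ≃ Fin a) (Equiv.refl ι)) K = K ∘ (σ⁻¹ : Equiv.Perm (Fin a)) := rfl
    rw [h1, mon_comp]
  exact LinearMap.congr_fun key t

include he in
theorem isSemisimpleComod [CharZero k]
    (hφ : ∀ m : (Fin a → ι) → (Fin a → ι) → k, (∀ (σ : Equiv.Perm (Fin a)) K J, m (K ∘ σ) (J ∘ σ) = m K J) →
      ∃ φ : A →ₗ[k] k, ∀ K J, φ (mon x K J) = m K J) : IsSemisimpleComod k A T := by
  have hfin : Module.Finite k T := Module.Finite.of_basis e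
  have hne : NeZero (Nat.card (Equiv.Perm (Fin a)) : k) := by
    constructor
    rw [Nat.cast_ne_zero, Nat.card_eq_fintype_card]
    exact Fintype.card_ne_zero
  -- every endomorphism commuting with the permutations is `dact φ`
  have hcomm : ∀ f : T →ₗ[k] T, (∀ σ t, f (permRep e σ t) = permRep e σ (f t)) → ∃ φ : A →ₗ[k] k, dact T φ = f := by
    intro f hf
    obtain ⟨φ, hφ'⟩ := hφ (fun K J => e.repr (f (e J)) K) (by
      intro σ K J
      have h1 := hf σ⁻¹ (e J)
      rw [permRep_basis, inv_inv] at h1
      rw [h1]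
      conv_lhs => rw [← e.sum_repr (f (e J)), map_sum]
      simp only [map_smul, permRep_basis, inv_inv]
      rw [map_sum, Finsupp.finsetSum_apply, Finset.sum_eq_single K]
      · simp
      · intro L _ hL
        rw [map_smul, Finsupp.smul_apply, Module.Basis.repr_self, Finsupp.single_apply, if_neg, smul_zero]
        intro h
        apply hL
        funext i
        have := congrFun h (σ⁻¹ i)
        simpa using this
      · intro h
        exact absurd (Finset.mem_univ _) h)
    refine ⟨φ, e.ext fun J => ?_⟩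
    rw [dact_basis e x he]
    simp only [hφ']
    exact e.sum_repr _
  intro W hW
  rw [isSubcomod_iff_dact] at hW
  obtain ⟨W', hW', hc⟩ := K888.Commutant.exists_compl (permRep e) W (fun f hf w hw => by
    obtain ⟨φ, rfl⟩ := hcomm f hf
    exact hW φ w hw)
  refine ⟨W', ?_, hc⟩
  rw [isSubcomod_iff_dact]
  intro φ w hw
  exact hW' (dact T φ) (fun σ t => dact_comm e x he φ σ t) w hw

end K888.Schur
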