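import Groth.Prelude.Def_GLin5
import Groth.Agent.ComodTens.K888.Schur
import Mathlib.LinearAlgebra.Matrix.MvPolynomial
import Mathlib.RingTheory.MvPolynomial.Homogeneous
import Mathlib.RingTheory.Localization.FractionRing
import Mathlib.LinearAlgebra.Basis.VectorSpace

set_option autoImplicit false

/-!
# Facts on the coordinate ring of the general linear group
-/

open TensorProduct LaurentPolynomial Groth.Agent.Books.ComodBasic

namespace K888.GLFacts

universe u v

variable {n : ℕ} {k : Type u} [Field k]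

/-- the ring of functions on matrices mapped to `O(GL_n)` -/
noncomputable def τ (n : ℕ) (k : Type u) [Field k] : MvPolynomial (Fin n × Fin n) k →ₐ[k] CoordGrp.GLn n k :=
  MvPolynomial.aeval fun p => CoordGrp.GLn.X p.1 p.2

@[simp] theorem τ_X (p : Fin n × Fin n) : τ n k (MvPolynomial.X p) = CoordGrp.GLn.X p.1 p.2 :=
  MvPolynomial.aeval_X _ _

theorem τ_det : τ n k (Matrix.mvPolynomialX (Fin n) (Fin n) k).det = CoordGrp.GLn.det := by
  rw [AlgHom.map_det, CoordGrp.GLn.det_eq]
  congr 1
  ext i j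
  simp [Matrix.mvPolynomialX, CoordGrp.GLn.genMat]

theorem τ_injective : Function.Injective (τ n k) := by
  let R := MvPolynomial (Fin n × Fin n) k
  let F := FractionRing R
  let M : Matrix (Fin n) (Fin n) F := (algebraMap R F).mapMatrix (Matrix.mvPolynomialX (Fin n) (Fin n) k)
  have hM : M.det ≠ 0 := by
    have h1 : M.det = algebraMap R F (Matrix.mvPolynomialX (Fin n) (Fin n) k).det := by
      rw [RingHom.map_det]
    rw [h1]
    intro h2
    exact Matrix.det_mvPolynomialX_ne_zero (Fin n) k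
      ((map_eq_zero_iff _ (IsFractionRing.injective R F)).mp h2)
  let ψ : CoordGrp.GLn n k →ₐ[k] F := CoordGrp.GLn.pt n k M M.det⁻¹ (mul_inv_cancel₀ hM)
  have h1 : ψ.comp (τ n k) = IsScalarTower.toAlgHom k R F := by
    apply MvPolynomial.algHom_ext
    intro p
    rw [AlgHom.comp_apply, τ_X, CoordGrp.GLn.pt_X]
    rfl
  have h2 : Function.Injective (ψ.comp (τ n k)) := by
    rw [h1]
    exact IsFractionRing.injective R F
  exact Function.Injective.of_comp h2

/-- the quotient map read on the polynomial ring -/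
noncomputable def mk' (n : ℕ) (k : Type u) [Field k] : MvPolynomial (CoordGrp.GLPoly.Idx n) k →ₐ[k] CoordGrp.GLn n k :=
  CoordGrp.GLn.mk n k

theorem mk'_surjective : Function.Surjective (mk' n k) := fun g => Ideal.Quotient.mk_surjective g

theorem mk'_inl (p : Fin n × Fin n) : mk' n k (MvPolynomial.X (Sum.inl p)) = CoordGrp.GLn.X p.1 p.2 := rfl

theorem mk'_inr (u : Unit) : mk' n k (MvPolynomial.X (Sum.inr u)) = CoordGrp.GLn.Dinv := rfl

theorem exists_det_pow (g : CoordGrp.GLn n k) :
    ∃ (N : ℕ) (p : MvPolynomial (Fin n × Fin n) k), CoordGrp.GLn.det ^ N * g = τ n k p := by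
  obtain ⟨b, rfl⟩ := mk'_surjective g
  induction b using MvPolynomial.induction_on with
  | C c =>
    refine ⟨0, MvPolynomial.C c, ?_⟩
    rw [pow_zero, one_mul]
    exact ((mk' n k).commutes c).trans ((τ n k).commutes c).symm
  | add p q hp hq =>
    obtain ⟨N, p', hp⟩ := hp
    obtain ⟨M, q', hq⟩ := hq
    refine ⟨N + M, (Matrix.mvPolynomialX (Fin n) (Fin n) k).det ^ M * p' +
      (Matrix.mvPolynomialX (Fin n) (Fin n) k).det ^ N * q', ?_⟩
    rw [map_add, map_add, map_mul, map_mul, map_pow, map_pow, τ_det, ← hp, ← hq]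
    ring
  | mul_X p s hp =>
    obtain ⟨N, p', hp⟩ := hp
    rcases s with ij | u
    · refine ⟨N, p' * MvPolynomial.X ij, ?_⟩
      rw [map_mul, map_mul, ← hp, τ_X, mul_assoc, mk'_inl]
    · refine ⟨N + 1, p', ?_⟩
      rw [map_mul, ← hp, mk'_inr]
      have h3 := CoordGrp.GLn.det_mul_Dinv (n := n) (k := k)
      calc CoordGrp.GLn.det ^ (N + 1) * (mk' n k p * CoordGrp.GLn.Dinv)
          = CoordGrp.GLn.det ^ N * mk' n k p * (CoordGrp.GLn.det * CoordGrp.GLn.Dinv) := by ring
        _ = _ := by rw [h3, mul_one]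

theorem exists_det_pow_of_le {g : CoordGrp.GLn n k} {N N' : ℕ} (h : N ≤ N')
    (hg : ∃ p : MvPolynomial (Fin n × Fin n) k, CoordGrp.GLn.det ^ N * g = τ n k p) :
    ∃ p : MvPolynomial (Fin n × Fin n) k, CoordGrp.GLn.det ^ N' * g = τ n k p := by
  obtain ⟨p, hp⟩ := hg
  obtain ⟨m, rfl⟩ := Nat.exists_eq_add_of_le h
  refine ⟨(Matrix.mvPolynomialX (Fin n) (Fin n) k).det ^ m * p, ?_⟩
  rw [map_mul, map_pow, τ_det, ← hp]
  ring

theorem exists_det_pow_family {ι : Type*} [Finite ι] (g : ι → CoordGrp.GLn n k) :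
    ∃ N : ℕ, 0 < N ∧ ∀ i, ∃ p : MvPolynomial (Fin n × Fin n) k, CoordGrp.GLn.det ^ N * g i = τ n k p := by
  cases nonempty_fintype ι
  choose N hN using fun i => exists_det_pow (g i)
  exact ⟨(Finset.univ.sup N) + 1, Nat.succ_pos _, fun i =>
    exists_det_pow_of_le ((Finset.le_sup (Finset.mem_univ i)).trans (Nat.le_succ _)) (hN i)⟩

/-- coefficient functional on Laurent polynomials -/
noncomputable def cf (k : Type u) [Field k] (d : ℤ) : k[T;T⁻¹] →ₗ[k] k where
  toFun p := p.coeff d
  map_add' p q := by simp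
  map_smul' c p := by simp

@[simp] theorem cf_T (d m : ℤ) : cf k d (T m) = if m = d then 1 else 0 := LaurentPolynomial.T_apply _ _

/-- the grading coaction of the scalars on `O(GL_n)` -/
noncomputable def δ (n : ℕ) (k : Type u) [Field k] : CoordGrp.GLn n k →ₐ[k] CoordGrp.GLn n k ⊗[k] k[T;T⁻¹] :=
  (Algebra.TensorProduct.map (AlgHom.id k _) (CoordGrp.GLn.diag n k (fun _ => 1) : CoordGrp.GLn n k →ₐ[k] k[T;T⁻¹])).comp
    (Bialgebra.comulAlgHom k (CoordGrp.GLn n k))

theorem δ_X (i j : Fin n) : δ n k (CoordGrp.GLn.X i j) = CoordGrp.GLn.X i j ⊗ₜ[k] T 1 := by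
  rw [δ, AlgHom.comp_apply]
  change Algebra.TensorProduct.map _ _ (CoalgebraStruct.comul (R := k) (CoordGrp.GLn.X i j : CoordGrp.GLn n k)) = _
  rw [CoordGrp.GLn.comul_X, map_sum]
  simp only [Algebra.TensorProduct.map_tmul, AlgHom.id_apply]
  have h1 : ∀ l, (CoordGrp.GLn.diag n k (fun _ => 1) : CoordGrp.GLn n k →ₐ[k] k[T;T⁻¹]) (CoordGrp.GLn.X l j) =
      if l = j then T 1 else 0 := fun l => CoordGrp.GLn.diag_X _ l j
  simp only [h1, tmul_ite, Finset.sum_ite_eq', Finset.mem_univ, if_true]

theorem δ_det : δ n k CoordGrp.GLn.det = CoordGrp.GLn.det ⊗ₜ[k] T (n : ℤ) := by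
  rw [δ, AlgHom.comp_apply]
  change Algebra.TensorProduct.map _ _ (CoalgebraStruct.comul (R := k) (CoordGrp.GLn.det : CoordGrp.GLn n k)) = _
  rw [CoordGrp.GLn.comul_det, Algebra.TensorProduct.map_tmul, AlgHom.id_apply]
  congr 1
  have := CoordGrp.GLn.diag_det (n := n) (k := k) (fun _ => 1)
  simpa using this

theorem prod_tmul {A B : Type*} [CommRing A] [Algebra k A] [CommRing B] [Algebra k B] {σ : Type*} (s : Finset σ)
    (f : σ → A) (g : σ → B) : ∏ i ∈ s, (f i ⊗ₜ[k] g i) = (∏ i ∈ s, f i) ⊗ₜ[k] (∏ i ∈ s, g i) := by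
  classical
  induction s using Finset.induction_on with
  | empty => simp [Algebra.TensorProduct.one_def]
  | insert a s ha ih => rw [Finset.prod_insert ha, Finset.prod_insert ha, Finset.prod_insert ha, ih,
      Algebra.TensorProduct.tmul_mul_tmul]

theorem δ_τ_monomial (s : (Fin n × Fin n) →₀ ℕ) : δ n k (τ n k (MvPolynomial.monomial s 1)) =
    τ n k (MvPolynomial.monomial s 1) ⊗ₜ[k] T (s.degree : ℤ) := by
  rw [MvPolynomial.monomial_eq, MvPolynomial.C_1, one_mul, Finsupp.prod, map_prod, map_prod]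
  simp only [map_pow, τ_X, δ_X, Algebra.TensorProduct.tmul_pow, T_pow, mul_one]
  rw [prod_tmul, CoordGrp.GLn.prod_T]
  congr 2
  rw [Finsupp.degree_apply]
  push_cast
  simp

theorem slice_δ_τ (d : ℕ) (p : MvPolynomial (Fin n × Fin n) k) :
    slice (CoordGrp.GLn n k) (cf k d) (δ n k (τ n k p)) = τ n k (MvPolynomial.homogeneousComponent d p) := by
  induction p using MvPolynomial.induction_on' with
  | add p q hp hq => simp only [map_add, hp, hq]
  | monomial s c =>
    have h1 : MvPolynomial.monomial s c = c • MvPolynomial.monomial s (1 : k) := by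
      rw [MvPolynomial.smul_monomial, smul_eq_mul, mul_one]
    rw [h1]
    simp only [map_smul]
    rw [δ_τ_monomial, slice_tmul, cf_T]
    congr 1
    by_cases hs : s.degree = d
    · rw [if_pos (by exact_mod_cast hs), one_smul, MvPolynomial.homogeneousComponent_of_mem (m := d) (n := d), if_pos rfl]
      rw [MvPolynomial.mem_homogeneousSubmodule]
      exact MvPolynomial.isHomogeneous_monomial _ hs
    · rw [if_neg (by exact_mod_cast hs), zero_smul, MvPolynomial.homogeneousComponent_of_mem (m := d) (n := s.degree),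
        if_neg (fun h => hs h.symm), map_zero]
      rw [MvPolynomial.mem_homogeneousSubmodule]
      exact MvPolynomial.isHomogeneous_monomial _ rfl

/-- If `τ p` is of weight `m` under scalars, then `p` is homogeneous of degree `m`. -/
theorem homogeneous_of_weight {p : MvPolynomial (Fin n × Fin n) k} {m : ℤ}
    (h : δ n k (τ n k p) = τ n k p ⊗ₜ[k] T m) (d : ℕ) (hd : (d : ℤ) ≠ m) :
    MvPolynomial.homogeneousComponent d p = 0 := by
  apply τ_injective
  rw [← slice_δ_τ, h, slice_tmul, cf_T, if_neg (fun h => hd h.symm), zero_smul, map_zero]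

/-! ### functionals with prescribed values on monomials -/

/-- two maps from `Fin a` with the same image monomial differ by a permutation -/
theorem exists_perm {a : ℕ} {α : Type*} (f g : Fin a → α)
    (h : ∑ l, (Finsupp.single (f l) 1 : α →₀ ℕ) = ∑ l, Finsupp.single (g l) 1) :
    ∃ σ : Equiv.Perm (Fin a), f ∘ σ = g := by
  classical
  have hcard : ∀ c, Fintype.card {l // f l = c} = Fintype.card {l // g l = c} := by
    intro c
    have h1 := DFunLike.congr_fun h c
    rw [Finsupp.finsetSum_apply, Finsupp.finsetSum_apply] at h1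
    simp only [Finsupp.single_apply] at h1
    rw [Fintype.card_subtype, Fintype.card_subtype]
    simpa using h1
  have e : ∀ c, {l // g l = c} ≃ {l // f l = c} := fun c => Fintype.equivOfCardEq (hcard c).symm
  refine ⟨Equiv.ofFiberEquiv e, ?_⟩
  funext l
  exact Equiv.ofFiberEquiv_map e l

theorem mon_eq {a : ℕ} (K J : Fin a → Fin n) :
    Schur.mon (A := CoordGrp.GLn n k) (fun i j => CoordGrp.GLn.X i j) K J =
      τ n k (MvPolynomial.monomial (∑ l, Finsupp.single (K l, J l) 1) 1) := by
  rw [Schur.mon, MvPolynomial.monomial_sum_one, map_prod]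
  refine Finset.prod_congr rfl fun l _ => ?_
  exact (τ_X (K l, J l)).symm

theorem exists_functional {a : ℕ} (m : (Fin a → Fin n) → (Fin a → Fin n) → k)
    (hm : ∀ (σ : Equiv.Perm (Fin a)) K J, m (K ∘ σ) (J ∘ σ) = m K J) :
    ∃ φ : CoordGrp.GLn n k →ₗ[k] k, ∀ K J, φ (Schur.mon (fun i j => CoordGrp.GLn.X i j) K J) = m K J := by
  classical
  -- the value on a monomial
  let val : ((Fin n × Fin n) →₀ ℕ) → k := fun s =>
    if h : ∃ KJ : (Fin a → Fin n) × (Fin a → Fin n), (∑ l, Finsupp.single (KJ.1 l, KJ.2 l) 1) = s then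
      m h.choose.1 h.choose.2 else 0
  have hval : ∀ K J : Fin a → Fin n, val (∑ l, Finsupp.single (K l, J l) 1) = m K J := by
    intro K J
    have hex : ∃ KJ : (Fin a → Fin n) × (Fin a → Fin n), (∑ l, Finsupp.single (KJ.1 l, KJ.2 l) 1) =
      (∑ l, Finsupp.single (K l, J l) 1 : (Fin n × Fin n) →₀ ℕ) := ⟨(K, J), rfl⟩
    have h1 : val (∑ l, Finsupp.single (K l, J l) 1) = m hex.choose.1 hex.choose.2 := dif_pos hex
    rw [h1]
    obtain ⟨σ, hσ⟩ := exists_perm (fun l => (hex.choose.1 l, hex.choose.2 l)) (fun l => (K l, J l)) hex.choose_spec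
    have hK : K = hex.choose.1 ∘ σ := by
      funext l
      exact (congrArg Prod.fst (congrFun hσ l)).symm
    have hJ : J = hex.choose.2 ∘ σ := by
      funext l
      exact (congrArg Prod.snd (congrFun hσ l)).symm
    have e5 : m K J = m (hex.choose.1 ∘ σ) (hex.choose.2 ∘ σ) := congrArg₂ m hK hJ
    rw [e5, hm]
  obtain ⟨g, hg⟩ := (τ n k).toLinearMap.exists_leftInverse_of_injective (LinearMap.ker_eq_bot.mpr τ_injective)
  let ψ : MvPolynomial (Fin n × Fin n) k →ₗ[k] k := (MvPolynomial.basisMonomials (Fin n × Fin n) k).constr k val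
  refine ⟨ψ ∘ₗ g, fun K J => ?_⟩
  rw [mon_eq, LinearMap.comp_apply]
  have h1 : g (τ n k (MvPolynomial.monomial (∑ l, Finsupp.single (K l, J l) 1) 1)) =
      MvPolynomial.monomial (∑ l, Finsupp.single (K l, J l) 1) 1 := LinearMap.congr_fun hg _
  rw [h1]
  have h2 := (MvPolynomial.basisMonomials (Fin n × Fin n) k).constr_basis k val (∑ l, Finsupp.single (K l, J l) 1)
  rw [MvPolynomial.coe_basisMonomials] at h2
  exact h2.trans (hval K J)

theorem exists_sum_single {α : Type*} (a : ℕ) : ∀ s : α →₀ ℕ, s.degree = a →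
    ∃ f : Fin a → α, ∑ l, (Finsupp.single (f l) 1 : α →₀ ℕ) = s := by
  classical
  induction a with
  | zero =>
    intro s hs
    rw [Finsupp.degree_eq_zero_iff] at hs
    exact ⟨Fin.elim0, by simp [hs]⟩
  | succ a ih =>
    intro s hs
    have hne : s ≠ 0 := by
      rintro rfl
      simp at hs
    obtain ⟨x, hx⟩ := Finsupp.ne_iff.mp hne
    have hle : Finsupp.single x 1 ≤ s := by
      rw [Finsupp.single_le_iff]
      exact Nat.one_le_iff_ne_zero.mpr hx
    obtain ⟨f, hf⟩ := ih (s - Finsupp.single x 1) (by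
      have h1 : (s - Finsupp.single x 1) + Finsupp.single x 1 = s := tsub_add_cancel_of_le hle
      have h2 := congrArg Finsupp.degree h1
      rw [map_add, Finsupp.degree_single] at h2
      omega)
    refine ⟨Fin.cons x f, ?_⟩
    rw [Fin.sum_univ_succ]
    simp only [Fin.cons_zero, Fin.cons_succ, hf]
    exact add_tsub_cancel_of_le hle

/-- homogeneous polynomials of degree `a` are combinations of the monomials `∏ X (K l) (J l)` -/
theorem mem_span_mon {a : ℕ} {p : MvPolynomial (Fin n × Fin n) k} (hp : p.IsHomogeneous a) :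
    τ n k p ∈ Submodule.span k (Set.range fun KJ : (Fin a → Fin n) × (Fin a → Fin n) =>
      Schur.mon (A := CoordGrp.GLn n k) (fun i j => CoordGrp.GLn.X i j) KJ.1 KJ.2) := by
  classical
  rw [← MvPolynomial.support_sum_monomial_coeff p, map_sum]
  refine Submodule.sum_mem _ fun s hs => ?_
  have hdeg : s.degree = a := by
    have := hp (MvPolynomial.mem_support_iff.mp hs)
    rw [Finsupp.degree_eq_weight_one]
    exact this
  have h1 : MvPolynomial.monomial s (MvPolynomial.coeff s p) = MvPolynomial.coeff s p • MvPolynomial.monomial s (1 : k) := by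
    rw [MvPolynomial.smul_monomial, smul_eq_mul, mul_one]
  rw [h1, map_smul]
  refine Submodule.smul_mem _ _ (Submodule.subset_span ?_)
  -- write `s` as a sum of `a` singles
  obtain ⟨f, hf⟩ : ∃ f : Fin a → (Fin n × Fin n), ∑ l, (Finsupp.single (f l) 1 : (Fin n × Fin n) →₀ ℕ) = s := by
    exact exists_sum_single a s hdeg
  refine ⟨(fun l => (f l).1, fun l => (f l).2), ?_⟩
  simp only
  rw [mon_eq]
  simp only [Prod.mk.eta, hf]

end K888.GLFacts
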