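import Groth.Agent.HopfRep.K192.DualMod
import Groth.Prelude.Def_ComodTens
import Mathlib.RingTheory.SimpleModule.Basic

set_option autoImplicit false

/-!
# Retracts of semisimple comodules
-/

open TensorProduct HopfRep Groth.Agent.Books.ComodBasic K192.DualMod ComodTens

namespace K888.Retract

universe u v w w' w''

variable {k : Type u} [Field k] {A : Type v} [AddCommGroup A] [Module k A] [Coalgebra k A]

theorem mod_retract {D : Type u} [Ring D] {X : Type v} {Y : Type w} {Z : Type w'} [AddCommGroup X] [Module D X]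
    [AddCommGroup Y] [Module D Y] [AddCommGroup Z] [Module D Z] [IsSemisimpleModule D X]
    (q : X →ₗ[D] Y) (ρ : Z →ₗ[D] Y) (hinj : Function.Injective ρ) (hr : LinearMap.range ρ ≤ LinearMap.range q) :
    ∃ (i : Z →ₗ[D] X) (p : X →ₗ[D] Z), p ∘ₗ i = LinearMap.id := by
  have hss : IsSemisimpleModule D (LinearMap.range q) := IsSemisimpleModule.range q
  let ρ' : Z →ₗ[D] LinearMap.range q := ρ.codRestrict _ (fun z => hr ⟨z, rfl⟩)
  have hρ' : Function.Injective ρ' := fun a b hab => hinj (congrArg Subtype.val hab)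
  obtain ⟨s, hs⟩ := IsSemisimpleModule.lifting_property q.rangeRestrict
    (LinearMap.surjective_rangeRestrict q) (LinearMap.id : LinearMap.range q →ₗ[D] LinearMap.range q)
  obtain ⟨t, ht⟩ := IsSemisimpleModule.extension_property ρ' hρ' (LinearMap.id : Z →ₗ[D] Z)
  refine ⟨s ∘ₗ ρ', t ∘ₗ q.rangeRestrict, ?_⟩
  ext z
  have h1 := LinearMap.congr_fun hs (ρ' z)
  have h2 := LinearMap.congr_fun ht z
  simp only [LinearMap.comp_apply, LinearMap.id_apply] at h1 h2 ⊢
  rw [h1, h2]

theorem exists_retract {E : Type w} [AddCommGroup E] [Module k E] [Comod k A E]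
    {Y : Type w'} [AddCommGroup Y] [Module k Y] [Comod k A Y]
    {Z : Type w''} [AddCommGroup Z] [Module k Z] [Comod k A Z] (hE : IsSemisimpleComod k A E)
    (q : E →ₗ[k] Y) (hq : Hoch.IsComodHom A q) (ρ : Z →ₗ[k] Y) (hρ : Hoch.IsComodHom A ρ)
    (hinj : Function.Injective ρ) (hr : LinearMap.range ρ ≤ LinearMap.range q) :
    ∃ (i : Z →ₗ[k] E) (p : E →ₗ[k] Z), p ∘ₗ i = LinearMap.id ∧ Hoch.IsComodHom A i ∧ Hoch.IsComodHom A p := by
  rw [isSemisimpleComod_iff] at hE
  obtain ⟨i, p, hip⟩ := mod_retract (toHom (C := A) q hq) (toHom (C := A) ρ hρ) hinj (by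
    rintro _ ⟨z, rfl⟩
    obtain ⟨x, hx⟩ := hr ⟨z, rfl⟩
    exact ⟨x, hx⟩)
  refine ⟨ofHom i, ofHom p, ?_, isComodHom_ofHom i, isComodHom_ofHom p⟩
  ext z
  exact LinearMap.congr_fun hip z

theorem isComodHom_proj {T : Type w} [AddCommGroup T] [Module k T] (c : Comod k A T) (b : ℕ) (i : Fin b) :
    @Hoch.IsComodHom k _ A _ _ _ (Fin b → T) _ _ (ComodTens.Comod.pi fun _ : Fin b => c) T _ _ c
      (LinearMap.proj i) := by
  refine LinearMap.ext fun f => ?_
  change c.coact (f i) = (LinearMap.proj i : (Fin b → T) →ₗ[k] T).rTensor A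
    ((ComodTens.Comod.pi fun _ : Fin b => c).coact f)
  rw [pi_coact, map_sum, Finset.sum_eq_single i]
  · rw [← LinearMap.comp_apply, ← LinearMap.rTensor_comp]
    have : (LinearMap.proj i : (Fin b → T) →ₗ[k] T) ∘ₗ LinearMap.single k (fun _ => T) i = LinearMap.id := by
      ext t; simp
    rw [this, LinearMap.rTensor_id, LinearMap.id_apply]
  · intro j _ hj
    rw [← LinearMap.comp_apply, ← LinearMap.rTensor_comp]
    have : (LinearMap.proj i : (Fin b → T) →ₗ[k] T) ∘ₗ LinearMap.single k (fun _ => T) j = 0 := by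
      ext t; simp [Pi.single_apply, hj.symm]
    rw [this, LinearMap.rTensor_zero, LinearMap.zero_apply]
  · intro h
    exact absurd (Finset.mem_univ _) h

/-- A finite power of a semisimple comodule is semisimple. -/
theorem isSemisimpleComod_pi {T : Type w} [AddCommGroup T] [Module k T] (c : Comod k A T) (b : ℕ)
    (hT : @IsSemisimpleComod k A _ _ _ _ T _ _ c) :
    @IsSemisimpleComod k A _ _ _ _ (Fin b → T) _ _ (ComodTens.Comod.pi fun _ : Fin b => c) := by
  let : Comod k A T := c
  let : Comod k A (Fin b → T) := ComodTens.Comod.pi fun _ : Fin b => c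
  rw [isSemisimpleComod_iff] at hT ⊢
  have hpi : ∀ (φ : A →ₗ[k] k) (f : Fin b → T) (i : Fin b), dact (Fin b → T) φ f i = dact T φ (f i) := by
    intro φ f i
    have h1 : Hoch.IsComodHom (k := k) A (LinearMap.proj i : (Fin b → T) →ₗ[k] T) :=
      isComodHom_proj c b i
    exact (isComodHom_iff_dact' _).1 h1 φ f
  let e : DM k A (Fin b → T) ≃ₗ[Dl k A] (Fin b → DM k A T) :=
    { toFun := fun f i => (show Fin b → T from f) i
      invFun := fun f => (show DM k A (Fin b → T) from fun i => (show T from f i))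
      map_add' := fun _ _ => rfl
      map_smul' := fun φ f => funext fun i => hpi φ.ofConv f i
      left_inv := fun _ => rfl
      right_inv := fun _ => rfl }
  exact IsSemisimpleModule.congr e

end K888.Retract
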