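import Groth.Prelude.Def_ComodTens
import Mathlib.LinearAlgebra.PiTensorProduct.Basis
import Mathlib.LinearAlgebra.StdBasis

set_option autoImplicit false

/-!
# The coaction of a tensor power in coordinates
-/

open TensorProduct ComodTens PiTensorProduct

namespace K888.TPow

universe u v w

variable {k : Type u} [CommRing k] {A : Type v} [CommRing A] [Bialgebra k A]
  {V : Type w} [AddCommGroup V] [Module k V] {ι : Type} [Fintype ι]

theorem mulEquiv_tprod (n : ℕ) (a : Fin n → V) (b : Fin 1 → V) :
    TensorPower.mulEquiv (R := k) (M := V) (n := n) (m := 1) (tprod k a ⊗ₜ[k] tprod k b) = tprod k (Fin.append a b) :=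
  TensorPower.tprod_mul_tprod k a b

theorem tprod_succ (b : ι → V) (n : ℕ) (J : Fin (n + 1) → ι) :
    TensorPower.mulEquiv (R := k) (M := V) (n := n) (m := 1)
        ((tprod k fun l : Fin n => b (J (Fin.castSucc l))) ⊗ₜ[k] (tprod k fun _ : Fin 1 => b (J (Fin.last n)))) =
      tprod k fun l => b (J l) := by
  rw [mulEquiv_tprod]
  congr 1
  funext l
  refine Fin.lastCases ?_ (fun i => ?_) l
  · have : (Fin.last n) = Fin.natAdd n (0 : Fin 1) := rfl
    conv_lhs => rw [this, Fin.append_right]
    rfl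
  · have : i.castSucc = Fin.castAdd 1 i := rfl
    conv_lhs => rw [this, Fin.append_left]

theorem tpowOne_coact (c : HopfRep.Comod k A V) (b : ι → V) (x : ι → ι → A)
    (hx : ∀ j, c.coact (b j) = ∑ i, b i ⊗ₜ[k] x i j) (j : ι) :
    (Comod.tpowOne c).coact (tprod k fun _ : Fin 1 => b j) = ∑ i, (tprod k fun _ : Fin 1 => b i) ⊗ₜ[k] x i j := by
  have e1 : ∀ v : V, (PiTensorProduct.subsingletonEquiv (R := k) (s := fun _ : Fin 1 => V) (0 : Fin 1)).symm v =
      tprod k fun _ => v := by
    intro v
    rw [LinearEquiv.symm_apply_eq, PiTensorProduct.subsingletonEquiv_apply_tprod]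
  rw [← e1 (b j), Comod.tpowOne, ofEquiv_coact_apply, hx, map_sum]
  simp only [LinearMap.rTensor_tmul, LinearEquiv.coe_coe, e1]

theorem tpow_coact (c : HopfRep.Comod k A V) (b : ι → V) (x : ι → ι → A)
    (hx : ∀ j, c.coact (b j) = ∑ i, b i ⊗ₜ[k] x i j) (n : ℕ) (J : Fin n → ι) :
    (Comod.tpow c n).coact (tprod k fun l => b (J l)) =
      ∑ K : Fin n → ι, (tprod k fun l => b (K l)) ⊗ₜ[k] ∏ l, x (K l) (J l) := by
  classical
  induction n with
  | zero =>
    rw [tpow_zero, ofEquiv_coact]
    have : (PiTensorProduct.isEmptyEquiv (Fin 0) (R := k) (s := fun _ : Fin 0 => V)).symm.symm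
        (tprod k fun l => b (J l)) = 1 := by
      simp
    rw [this]
    have e1 : (HopfRep.Comod.trivial k A k).coact (1 : k) = (1 : k) ⊗ₜ[k] (1 : A) := rfl
    rw [e1, LinearMap.rTensor_tmul]
    simp only [Finset.univ_unique, Finset.sum_singleton, Finset.univ_eq_empty, Finset.prod_empty]
    congr 1
    simp
    congr 1
    funext i
    exact i.elim0
  | succ n ih =>
    rw [tpow_succ, ← tprod_succ, ofEquiv_coact_apply,
      tensor_coact_tmul_of_sum (Comod.tpow c n) (Comod.tpowOne c) Finset.univ Finset.univ _ _ _ _ _ _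
        (ih fun l => J (Fin.castSucc l)) (tpowOne_coact c b x hx (J (Fin.last n)))]
    rw [map_sum, Finset.sum_congr rfl (fun K _ => map_sum _ _ _)]
    simp only [LinearMap.rTensor_tmul, LinearEquiv.coe_coe]
    rw [← (Fin.snocEquiv fun _ : Fin (n + 1) => ι).sum_comp, Fintype.sum_prod_type_right]
    refine Finset.sum_congr rfl fun K _ => Finset.sum_congr rfl fun i _ => ?_
    have h1 : (Fin.snocEquiv fun _ : Fin (n + 1) => ι) (i, K) = Fin.snoc (α := fun _ => ι) K i := rfl
    rw [h1, ← tprod_succ b n (Fin.snoc (α := fun _ => ι) K i), Fin.prod_univ_castSucc]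
    simp only [Fin.snoc_castSucc, Fin.snoc_last]

/-- the coaction of the tensor power of the standard comodule in the standard basis -/
theorem tpow_basis (b : Module.Basis ι k V) (n : ℕ) (J : Fin n → ι) :
    Basis.piTensorProduct (fun _ : Fin n => b) J = tprod k fun l => b (J l) :=
  Basis.piTensorProduct_apply _ _

end K888.TPow
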