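import Groth.Agent.ComodTens.K888.GLFacts
import Groth.Agent.ComodTens.K888.TPow
import Groth.Agent.ComodTens.K888.Retract
import Groth.Agent.ComodTens.K888.DualExists

set_option autoImplicit false

/-!
# Homogeneous representations of the general linear group are summands of twisted tensor powers
-/

open TensorProduct LaurentPolynomial Groth.Agent.Books.ComodBasic HopfRep ComodTens

namespace K888.Homog

universe u v w

variable (n : ℕ) (k : Type u) [Field k]

/-- the standard representation of the general linear group -/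
@[reducible] noncomputable def cstd : Comod k (CoordGrp.GLn n k) (Fin n → k) :=
  GLin.comodAlong (CoordGrp.Mat.toGLn n k) (ComodTens.stdVec n k)

theorem cstd_coact (j : Fin n) : (cstd n k).coact (Pi.basisFun k (Fin n) j) =
    ∑ i, Pi.basisFun k (Fin n) i ⊗ₜ[k] (CoordGrp.GLn.X i j : CoordGrp.GLn n k) := by
  rw [GLin.comodAlong_coact, stdVec_coact_basisFun, map_sum]
  refine Finset.sum_congr rfl fun i _ => ?_
  rw [TensorProduct.map_tmul, LinearMap.id_apply]
  congr 1
  exact CoordGrp.Mat.toGLn_X i j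

/-- the coordinate matrix coefficient -/
noncomputable abbrev xc (n : ℕ) (k : Type u) [Field k] : Fin n → Fin n → CoordGrp.GLn n k := fun i j => CoordGrp.GLn.X i j

/-- the standard basis of the tensor power -/
noncomputable def tb (a : ℕ) : Module.Basis (Fin a → Fin n) k (TensorPower k a (Fin n → k)) :=
  Basis.piTensorProduct fun _ => Pi.basisFun k (Fin n)

theorem tb_coact (a : ℕ) (J : Fin a → Fin n) : (Comod.tpow (cstd n k) a).coact (tb n k a J) =
    ∑ K, tb n k a K ⊗ₜ[k] Schur.mon (xc n k) K J := by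
  have h := TPow.tpow_coact (cstd n k) (Pi.basisFun k (Fin n)) (xc n k) (cstd_coact n k) a J
  simp only [← TPow.tpow_basis] at h
  exact h

theorem semisimple_tpow [CharZero k] (a : ℕ) :
    @IsSemisimpleComod k (CoordGrp.GLn n k) _ _ _ _ (TensorPower k a (Fin n → k)) _ _ (Comod.tpow (cstd n k) a) := by
  let := Comod.tpow (cstd n k) a
  exact Schur.isSemisimpleComod (tb n k a) (xc n k) (tb_coact n k a) (fun m hm => GLFacts.exists_functional m hm)

theorem comul_mon {A : Type v} [CommRing A] [Bialgebra k A] (x : Fin n → Fin n → A)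
    (hx : ∀ i j, CoalgebraStruct.comul (R := k) (x i j) = ∑ l, x i l ⊗ₜ[k] x l j) {a : ℕ} (L J : Fin a → Fin n) :
    CoalgebraStruct.comul (R := k) (Schur.mon x L J) = ∑ K, Schur.mon x L K ⊗ₜ[k] Schur.mon x K J := by
  change Bialgebra.comulAlgHom k A (Schur.mon x L J) = _
  rw [Schur.mon, map_prod]
  have h1 : ∀ l, Bialgebra.comulAlgHom k A (x (L l) (J l)) = ∑ i, x (L l) i ⊗ₜ[k] x i (J l) := fun l => hx _ _
  simp only [h1]
  rw [Finset.prod_univ_sum, Fintype.piFinset_univ]
  refine Finset.sum_congr rfl fun K _ => ?_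
  rw [GLFacts.prod_tmul]
  rfl

/-- the cofree comodule on `V` -/
@[reducible] noncomputable def cofree (k : Type u) [Field k] (A : Type v) [CommRing A] [Bialgebra k A]
    (V : Type w) [AddCommGroup V] [Module k V] : Comod k A (V ⊗[k] A) where
  coact := (TensorProduct.assoc k V A A).symm.toLinearMap ∘ₗ (CoalgebraStruct.comul (R := k) (A := A)).lTensor V
  coassoc := (Hoch.Ind.comod k A V).coassoc
  counit_comp := (Hoch.Ind.comod k A V).counit_comp

theorem cofree_coact (k : Type u) [Field k] (A : Type v) [CommRing A] [Bialgebra k A]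
    (V : Type w) [AddCommGroup V] [Module k V] (x : V ⊗[k] A) : (cofree k A V).coact x =
      (TensorProduct.assoc k V A A).symm ((CoalgebraStruct.comul (R := k) (A := A)).lTensor V x) := rfl

/-- the coaction is a map to the cofree comodule -/
theorem isComodHom_coact {A : Type v} [CommRing A] [Bialgebra k A] {V : Type w} [AddCommGroup V] [Module k V]
    (c : Comod k A V) : @Hoch.IsComodHom k _ A _ _ _ V _ _ c (V ⊗[k] A) _ _ (cofree k A V) c.coact := by
  refine LinearMap.ext fun x => ?_
  change (cofree k A V).coact (c.coact x) = c.coact.rTensor A (c.coact x)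
  rw [cofree_coact, LinearEquiv.symm_apply_eq]
  exact (LinearMap.congr_fun c.coassoc x).symm

theorem coact_injective {A : Type v} [CommRing A] [Bialgebra k A] {V : Type w} [AddCommGroup V] [Module k V]
    (c : Comod k A V) : Function.Injective c.coact := by
  intro x y hxy
  have h1 := LinearMap.congr_fun c.counit_comp x
  have h2 := LinearMap.congr_fun c.counit_comp y
  simp only [LinearMap.comp_apply, LinearMap.flip_apply, TensorProduct.mk_apply] at h1 h2
  rw [hxy, h2] at h1
  have := congrArg (TensorProduct.rid k V) h1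
  simpa using this.symm

section Main

variable {n k} {V : Type w} [AddCommGroup V] [Module k V] {ι : Type} [Fintype ι] [DecidableEq ι]
  (v : Module.Basis ι k V) {a b : ℕ} (f : Fin b ≃ ι × (Fin a → Fin n))

/-- the map from a sum of tensor powers to the cofree comodule -/
noncomputable def q : (Fin b → TensorPower k a (Fin n → k)) →ₗ[k] V ⊗[k] CoordGrp.GLn n k :=
  ∑ s : Fin b, ((tb n k a).constr k fun J => v (f s).1 ⊗ₜ[k] Schur.mon (xc n k) (f s).2 J) ∘ₗ LinearMap.proj s

theorem q_single (s : Fin b) (J : Fin a → Fin n) : q v f (Pi.single s (tb n k a J)) =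
    v (f s).1 ⊗ₜ[k] Schur.mon (xc n k) (f s).2 J := by
  rw [q, LinearMap.sum_apply, Finset.sum_eq_single s]
  · rw [LinearMap.comp_apply, LinearMap.proj_apply, Pi.single_eq_same, Module.Basis.constr_basis]
  · intro t _ ht
    rw [LinearMap.comp_apply, LinearMap.proj_apply, Pi.single_eq_of_ne ht, map_zero]
  · intro h
    exact absurd (Finset.mem_univ _) h

theorem isComodHom_q : @Hoch.IsComodHom k _ (CoordGrp.GLn n k) _ _ _ (Fin b → TensorPower k a (Fin n → k)) _ _
    (Comod.pi fun _ : Fin b => Comod.tpow (cstd n k) a) (V ⊗[k] CoordGrp.GLn n k) _ _ (cofree k _ V) (q v f) := by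
  apply LinearMap.pi_ext'
  intro s
  apply (tb n k a).ext
  intro J
  simp only [LinearMap.comp_apply]
  have h1 : (Comod.pi fun _ : Fin b => Comod.tpow (cstd n k) a).coact
      (LinearMap.single k (fun _ => TensorPower k a (Fin n → k)) s (tb n k a J)) =
      (LinearMap.single k (fun _ => TensorPower k a (Fin n → k)) s).rTensor _ ((Comod.tpow (cstd n k) a).coact (tb n k a J)) :=
    pi_coact_single (X := fun _ => TensorPower k a (Fin n → k)) (fun _ : Fin b => Comod.tpow (cstd n k) a) s
      (tb n k a J)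
  have h2 : q v f (LinearMap.single k (fun _ => TensorPower k a (Fin n → k)) s (tb n k a J)) = _ := q_single v f s J
  rw [h1, h2, tb_coact, cofree_coact, LinearMap.lTensor_tmul, comul_mon n k (xc n k) (fun i j => CoordGrp.GLn.comul_X i j),
    TensorProduct.tmul_sum, map_sum, map_sum, map_sum]
  refine Finset.sum_congr rfl fun K _ => ?_
  rw [TensorProduct.assoc_symm_tmul, LinearMap.rTensor_tmul, LinearMap.rTensor_tmul]
  congr 1
  exact (q_single v f s K).symm

/-- everything of degree `a` is in the image of `q` -/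
theorem mem_range_q (j : ι) {p : MvPolynomial (Fin n × Fin n) k} (hp : p.IsHomogeneous a) :
    v j ⊗ₜ[k] GLFacts.τ n k p ∈ LinearMap.range (q v f) := by
  have h1 := GLFacts.mem_span_mon hp
  have h2 : Submodule.map (TensorProduct.mk k V (CoordGrp.GLn n k) (v j)) (Submodule.span k
      (Set.range fun KJ : (Fin a → Fin n) × (Fin a → Fin n) => Schur.mon (xc n k) KJ.1 KJ.2)) ≤
      LinearMap.range (q v f) := by
    rw [Submodule.map_span, Submodule.span_le]
    rintro _ ⟨_, ⟨KJ, rfl⟩, rfl⟩
    refine ⟨Pi.single (f.symm (j, KJ.1)) (tb n k a KJ.2), ?_⟩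
    rw [q_single, Equiv.apply_symm_apply]
    rfl
  exact h2 ⟨_, h1, rfl⟩

end Main

/-- a homogeneous representation, twisted by a high power of the determinant, is a summand of a sum of tensor powers -/
theorem exists_retract_twist [CharZero k] {V : Type w} [AddCommGroup V] [Module k V] [Module.Finite k V] [Nontrivial V]
    (ρ : Comod k (CoordGrp.GLn n k) V) (h : ℤ)
    (hh : ∀ x : V, TensorProduct.map LinearMap.id ((CoordGrp.GLn.diag n k (fun _ => 1) : CoordGrp.GLn n k →ₗ[k] k[T;T⁻¹]))
      (ρ.coact x) = x ⊗ₜ[k] T h) :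
    ∃ (a b N : ℕ) (_ : 0 < N) (i : V →ₗ[k] (Fin b → TensorPower k a (Fin n → k)))
      (p : (Fin b → TensorPower k a (Fin n → k)) →ₗ[k] V), p ∘ₗ i = LinearMap.id ∧
      @Hoch.IsComodHom k _ (CoordGrp.GLn n k) _ _ _ V _ _ (Comod.twist ρ (CoordGrp.GLn.det ^ N)
          (IsGroupLikeElem.pow ⟨CoordGrp.GLn.counit_det, CoordGrp.GLn.comul_det⟩)) (Fin b → TensorPower k a (Fin n → k)) _ _
        (Comod.pi fun _ : Fin b => Comod.tpow (cstd n k) a) i ∧
      @Hoch.IsComodHom k _ (CoordGrp.GLn n k) _ _ _ (Fin b → TensorPower k a (Fin n → k)) _ _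
        (Comod.pi fun _ : Fin b => Comod.tpow (cstd n k) a) V _ _ (Comod.twist ρ (CoordGrp.GLn.det ^ N)
          (IsGroupLikeElem.pow ⟨CoordGrp.GLn.counit_det, CoordGrp.GLn.comul_det⟩)) p := by
  classical
  let ι := Fin (Module.finrank k V)
  let v : Module.Basis ι k V := Module.finBasis k V
  obtain ⟨N, hN, hp⟩ := GLFacts.exists_det_pow_family (fun ji : ι × ι => DualExists.coef v ρ ji.1 ji.2)
  choose P hP using hp
  -- weights
  have hdiag : ∀ j i : ι, (CoordGrp.GLn.diag n k (fun _ => 1) : CoordGrp.GLn n k →ₗ[k] k[T;T⁻¹])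
      (DualExists.coef v ρ j i) = if j = i then T h else 0 := by
    intro j i
    have h1 := hh (v i)
    rw [DualExists.coact_basis v ρ i, map_sum] at h1
    simp only [TensorProduct.map_tmul, LinearMap.id_apply] at h1
    have h2 : v i ⊗ₜ[k] (T h : k[T;T⁻¹]) = ∑ l, v l ⊗ₜ[k] (if l = i then (T h : k[T;T⁻¹]) else 0) := by
      rw [Finset.sum_eq_single i]
      · rw [if_pos rfl]
      · intro l _ hl
        rw [if_neg hl, TensorProduct.tmul_zero]
      · intro h
        exact absurd (Finset.mem_univ _) h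
    rw [h2] at h1
    exact DualExists.coef_ext v _ _ h1 j
  have hδ : ∀ j i : ι, GLFacts.δ n k (DualExists.coef v ρ j i) = DualExists.coef v ρ j i ⊗ₜ[k] T h := by
    intro j i
    rw [GLFacts.δ, AlgHom.comp_apply]
    change TensorProduct.map LinearMap.id ((CoordGrp.GLn.diag n k (fun _ => 1) : CoordGrp.GLn n k →ₗ[k] k[T;T⁻¹]))
      (CoalgebraStruct.comul (R := k) (DualExists.coef v ρ j i)) = _
    rw [DualExists.comul_coef, map_sum]
    simp only [TensorProduct.map_tmul, LinearMap.id_apply, hdiag]
    rw [Finset.sum_eq_single i]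
    · rw [if_pos rfl]
    · intro l _ hl
      rw [if_neg hl, TensorProduct.tmul_zero]
    · intro h
      exact absurd (Finset.mem_univ _) h
  have hδP : ∀ ji, GLFacts.δ n k (GLFacts.τ n k (P ji)) = GLFacts.τ n k (P ji) ⊗ₜ[k] T ((N : ℤ) * n + h) := by
    intro ji
    rw [← hP, map_mul, map_pow, GLFacts.δ_det, hδ, Algebra.TensorProduct.tmul_pow,
      Algebra.TensorProduct.tmul_mul_tmul, T_pow, ← T_add]
  have hcomp := fun ji d hd => GLFacts.homogeneous_of_weight (hδP ji) d hd
  -- the degree is nonnegative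
  obtain ⟨x, hx⟩ := exists_ne (0 : V)
  have hne : Nonempty ι := by
    by_contra hcon
    rw [not_nonempty_iff] at hcon
    exact hx (v.ext_elem (fun i => isEmptyElim i))
  obtain ⟨i₀⟩ := hne
  have hP0 : P (i₀, i₀) ≠ 0 := by
    intro h0
    have h1 := hP (i₀, i₀)
    rw [h0, map_zero] at h1
    have h2 : DualExists.coef v ρ i₀ i₀ = 0 := by
      have h3 : CoordGrp.GLn.Dinv ^ N * (CoordGrp.GLn.det ^ N * DualExists.coef v ρ i₀ i₀) = 0 := by
        rw [h1, mul_zero]
      rwa [← mul_assoc, ← mul_pow, CoordGrp.GLn.Dinv_mul_det, one_pow, one_mul] at h3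
    have h4 := DualExists.counit_coef v ρ i₀ i₀
    rw [h2, map_zero, if_pos rfl] at h4
    exact zero_ne_one h4
  obtain ⟨a, ha⟩ : ∃ a : ℕ, (a : ℤ) = (N : ℤ) * n + h := by
    by_contra hcon
    push Not at hcon
    apply hP0
    rw [← MvPolynomial.sum_homogeneousComponent (P (i₀, i₀))]
    exact Finset.sum_eq_zero fun d _ => hcomp _ d (hcon d)
  have hhom : ∀ ji, (P ji).IsHomogeneous a := by
    intro ji
    have h1 : P ji = MvPolynomial.homogeneousComponent a (P ji) := by
      conv_lhs => rw [← MvPolynomial.sum_homogeneousComponent (P ji)]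
      by_cases hmem : a ∈ Finset.range ((P ji).totalDegree + 1)
      · rw [Finset.sum_eq_single a]
        · intro d _ hd
          exact hcomp ji d (fun h => hd (by exact_mod_cast h.trans ha.symm))
        · intro h
          exact absurd hmem h
      · rw [MvPolynomial.homogeneousComponent_eq_zero a (P ji) (by simpa using hmem)]
        refine Finset.sum_eq_zero fun d hd => hcomp ji d (fun h => hmem ?_)
        have : d = a := by exact_mod_cast h.trans ha.symm
        rwa [← this]
    rw [h1]
    exact MvPolynomial.homogeneousComponent_isHomogeneous a _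
  -- assemble
  let b := Fintype.card (ι × (Fin a → Fin n))
  let f : Fin b ≃ ι × (Fin a → Fin n) := (Fintype.equivFin _).symm
  let ρ' : Comod k (CoordGrp.GLn n k) V := Comod.twist ρ (CoordGrp.GLn.det ^ N)
          (IsGroupLikeElem.pow ⟨CoordGrp.GLn.counit_det, CoordGrp.GLn.comul_det⟩)
  have hρ' : ∀ i, ρ'.coact (v i) = ∑ j, v j ⊗ₜ[k] GLFacts.τ n k (P (j, i)) := by
    intro i
    have h1 := twist_coact_of_sum ρ (CoordGrp.GLn.det ^ N)
      (IsGroupLikeElem.pow ⟨CoordGrp.GLn.counit_det, CoordGrp.GLn.comul_det⟩) Finset.univ (v i) v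
      (fun j => DualExists.coef v ρ j i) (DualExists.coact_basis v ρ i)
    refine h1.trans (Finset.sum_congr rfl fun j _ => ?_)
    rw [← hP, mul_comm]
  have hrange : LinearMap.range ρ'.coact ≤ LinearMap.range (q v f) := by
    rintro _ ⟨x, rfl⟩
    rw [← v.sum_repr x, map_sum]
    refine Submodule.sum_mem _ fun i _ => ?_
    rw [map_smul, hρ']
    exact Submodule.smul_mem _ _ (Submodule.sum_mem _ fun j _ => mem_range_q v f j (hhom (j, i)))
  obtain ⟨i, p, hip, hi, hp'⟩ := @Retract.exists_retract k _ (CoordGrp.GLn n k) _ _ _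
    (Fin b → TensorPower k a (Fin n → k)) _ _ (Comod.pi fun _ : Fin b => Comod.tpow (cstd n k) a)
    (V ⊗[k] CoordGrp.GLn n k) _ _ (cofree k _ V) V _ _ ρ'
    (Retract.isSemisimpleComod_pi _ b (semisimple_tpow n k a)) (q v f) (isComodHom_q v f) ρ'.coact
    (isComodHom_coact k ρ') (coact_injective k ρ') hrange
  exact ⟨a, b, N, hN, i, p, hip, hi, hp'⟩

end K888.Homog
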