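import Groth.Prelude.Def_ComodTens
import Groth.Prelude.Def_Hoch

set_option autoImplicit false

/-!
# Untwisting homomorphisms of comodules
-/

open TensorProduct HopfRep ComodTens

namespace K888.TwistHom

universe u v w

variable {k : Type u} [CommRing k] {A : Type v} [CommRing A] [Bialgebra k A]
  {V W : Type w} [AddCommGroup V] [Module k V] [AddCommGroup W] [Module k W]

theorem mulRight_rTensor (g : A) (f : V →ₗ[k] W) (x : V ⊗[k] A) :
    (LinearMap.mulRight k g).lTensor W (f.rTensor A x) = f.rTensor A ((LinearMap.mulRight k g).lTensor V x) := by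
  induction x with
  | zero => simp
  | tmul a b => simp
  | add a b ha hb => simp only [map_add, ha, hb]

theorem mulRight_mulRight (g g' : A) (h : g * g' = 1) (x : V ⊗[k] A) :
    (LinearMap.mulRight k g').lTensor V ((LinearMap.mulRight k g).lTensor V x) = x := by
  induction x with
  | zero => simp
  | tmul a b => simp [mul_assoc, h]
  | add a b ha hb => simp only [map_add, ha, hb]

/-- a homomorphism from a twist is a homomorphism to the inverse twist -/
theorem isComodHom_untwist_left (c : Comod k A V) (d : Comod k A W) (g g' : A) (hg : IsGroupLikeElem k g)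
    (hg' : IsGroupLikeElem k g') (h : g * g' = 1) (f : V →ₗ[k] W)
    (hf : @Hoch.IsComodHom k _ A _ _ _ V _ _ (Comod.twist c g hg) W _ _ d f) :
    @Hoch.IsComodHom k _ A _ _ _ V _ _ c W _ _ (Comod.twist d g' hg') f := by
  refine LinearMap.ext fun x => ?_
  have h1 : d.coact (f x) = f.rTensor A ((Comod.twist c g hg).coact x) := LinearMap.congr_fun hf x
  change (Comod.twist d g' hg').coact (f x) = f.rTensor A (c.coact x)
  rw [twist_coact, h1, twist_coact, mulRight_rTensor, mulRight_mulRight g g' h]

/-- a homomorphism to a twist is a homomorphism from the inverse twist -/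
theorem isComodHom_untwist_right (c : Comod k A V) (d : Comod k A W) (g g' : A) (hg : IsGroupLikeElem k g)
    (hg' : IsGroupLikeElem k g') (h : g * g' = 1) (f : V →ₗ[k] W)
    (hf : @Hoch.IsComodHom k _ A _ _ _ V _ _ c W _ _ (Comod.twist d g hg) f) :
    @Hoch.IsComodHom k _ A _ _ _ V _ _ (Comod.twist c g' hg') W _ _ d f := by
  refine LinearMap.ext fun x => ?_
  have h1 : (Comod.twist d g hg).coact (f x) = f.rTensor A (c.coact x) := LinearMap.congr_fun hf x
  change d.coact (f x) = f.rTensor A ((Comod.twist c g' hg').coact x)
  rw [twist_coact, ← mulRight_rTensor, ← h1, twist_coact, mulRight_mulRight g g' h]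

end K888.TwistHom
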